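import Mathlib.AlgebraicGeometry.AffineTransitionLimit
import Mathlib.AlgebraicGeometry.Morphisms.Affine

/-!
# Affineness of a morphism from a limit to a fixed scheme descends to a stage
-/

set_option autoImplicit false
universe u

open CategoryTheory Limits AlgebraicGeometry Opposite TopologicalSpace

namespace K340.AQ

variable {I : Type u} [Category.{u} I] [IsCofiltered I] (D : I ⥤ Scheme.{u}) (c : Cone D)
  (hc : IsLimit c) [∀ {i j : I} (f : i ⟶ j), IsAffineHom (D.map f)] [∀ i, QuasiSeparatedSpace (D.obj i)]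

include hc in
theorem exists_isAffineOpen {i : I} (U : (D.obj i).Opens) (hU : IsCompact (U : Set (D.obj i)))
    (h : IsAffineOpen (c.π.app i ⁻¹ᵁ U)) :
    ∃ (j : I) (f : j ⟶ i), IsAffineOpen (D.map f ⁻¹ᵁ U) := by
  have (j : Over i) : CompactSpace ((opensDiagram D i U).obj j) :=
    isCompact_iff_compactSpace.mp (QuasiCompact.isCompact_preimage _ U.2 hU)
  have (j : Over i) : QuasiSeparatedSpace ((opensDiagram D i U).obj j) :=
    (isQuasiSeparated_iff_quasiSeparatedSpace _ (D.map _ ⁻¹ᵁ _).2).mp (.of_quasiSeparatedSpace _)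
  have : IsAffine (opensCone D c i U).pt := h
  obtain ⟨j, hj⟩ := Scheme.exists_isAffine_of_isLimit _ _ (isLimitOpensCone D c hc i U)
  exact ⟨j.left, j.hom, hj⟩

include hc in
/-- If `c.pt ⟶ D i ⟶ W` is affine then so is some `D j ⟶ D i ⟶ W`. -/
theorem exists_isAffineHom {W : Scheme.{u}} [CompactSpace W] {i : I} (g : D.obj i ⟶ W)
    [QuasiCompact g] (h : IsAffineHom (c.π.app i ≫ g)) :
    ∃ (j : I) (f : j ⟶ i), IsAffineHom (D.map f ≫ g) := by
  classical
  choose O hO hxO using fun x : W ↦ (exists_isAffineOpen_mem_and_subset (x := x) (U := ⊤) trivial)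
  obtain ⟨t, ht⟩ := CompactSpace.elim_nhds_subcover (fun x ↦ (O x : Set W))
    (fun x ↦ (O x).2.mem_nhds (hxO x).1)
  have key : ∀ x : W, ∃ (j : I) (f : j ⟶ i), IsAffineOpen (D.map f ⁻¹ᵁ (g ⁻¹ᵁ O x)) := by
    intro x
    refine exists_isAffineOpen D c hc _ (g.isCompact_preimage (hO x).isCompact) ?_
    rw [← Scheme.Hom.comp_preimage]
    exact (hO x).preimage _
  choose k fk hk using key
  obtain ⟨j, hj⟩ := IsCofiltered.inf_objs_exists (C := Over i) (t.image fun x ↦ Over.mk (fk x))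
  refine ⟨j.left, j.hom, isAffineHom_of_forall_exists_isAffineOpen _ fun y ↦ ?_⟩
  obtain ⟨x, hxt, hyx⟩ := Set.mem_iUnion₂.mp (ht.ge (Set.mem_univ y))
  refine ⟨O x, hyx, hO x, ?_⟩
  let m := (hj (Finset.mem_image_of_mem _ hxt)).some
  have hm : m.left ≫ fk x = j.hom := Over.w m
  rw [← hm, Functor.map_comp, Category.assoc, Scheme.Hom.comp_preimage, Scheme.Hom.comp_preimage]
  exact (hk x).preimage _

end K340.AQ
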