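import Groth.Agent.CalgA.RelApprox

/-!
# Quasi-coherent subalgebras: pullback of sections, equalizers and images
-/

set_option autoImplicit false
universe u

open CategoryTheory Limits AlgebraicGeometry Opposite TopologicalSpace

namespace K340.AQ

open Groth.Agent.CalgA.QCSub Groth.Agent.CalgA

noncomputable section

section Pb

variable {X X' X'' T : Scheme.{u}} {π : X ⟶ T} {π' : X' ⟶ T} {π'' : X'' ⟶ T}

/-- Pullback of sections over preimages of opens of the base along a morphism over the base. -/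
def pb (h : X' ⟶ X) (e : h ≫ π = π') (U : T.Opens) : Γ(X, π ⁻¹ᵁ U) →+* Γ(X', π' ⁻¹ᵁ U) :=
  (h.appLE (π ⁻¹ᵁ U) (π' ⁻¹ᵁ U) (LimCrit.preimage_le e U)).hom

lemma pb_res (h : X' ⟶ X) (e : h ≫ π = π') {U V : T.Opens} (hVU : V ≤ U) (s : Γ(X, π ⁻¹ᵁ U)) :
    pb h e V (res π hVU s) = res π' hVU (pb h e U s) := by
  simp only [pb, res, rT]
  rw [← RingHom.comp_apply, ← RingHom.comp_apply, ← CommRingCat.hom_comp, ← CommRingCat.hom_comp,
    Scheme.Hom.map_appLE, Scheme.Hom.appLE_map]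

lemma pb_φ (h : X' ⟶ X) (e : h ≫ π = π') {U : T.Opens} (a : Γ(T, U)) :
    pb h e U (φ π U a) = φ π' U a := by
  subst e
  simp only [pb, φ]
  rw [← RingHom.comp_apply, ← CommRingCat.hom_comp]
  congr 2
  rw [Scheme.Hom.app_eq_appLE, Scheme.Hom.appLE_comp_appLE, Scheme.Hom.app_eq_appLE]

lemma pb_pb (h : X' ⟶ X) (e : h ≫ π = π') (h' : X'' ⟶ X') (e' : h' ≫ π' = π'') {U : T.Opens}
    (s : Γ(X, π ⁻¹ᵁ U)) :
    pb h' e' U (pb h e U s) = pb (h' ≫ h) (by rw [Category.assoc, e, e']) U s := by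
  simp only [pb]
  rw [← RingHom.comp_apply, ← CommRingCat.hom_comp, Scheme.Hom.appLE_comp_appLE]

lemma pb_congr {h h' : X' ⟶ X} (hh : h = h') (e : h ≫ π = π') {U : T.Opens} (s : Γ(X, π ⁻¹ᵁ U)) :
    pb h e U s = pb h' (hh ▸ e) U s := by
  subst hh
  rfl

lemma pb_id (h : X ⟶ X) (hh : h = 𝟙 X) (e : h ≫ π = π) {U : T.Opens} (s : Γ(X, π ⁻¹ᵁ U)) :
    pb h e U s = s := by
  subst hh
  simp only [pb]
  have : (𝟙 X : X ⟶ X).appLE (π ⁻¹ᵁ U) (π ⁻¹ᵁ U) (LimCrit.preimage_le e U) = 𝟙 _ := by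
    rw [Scheme.Hom.appLE, Scheme.Hom.id_app]
    exact (Category.id_comp _).trans (X.presheaf.map_id _)
  rw [this]
  rfl

/-- A morphism over the base maps one subalgebra into another. -/
def Maps (h : X' ⟶ X) (e : h ≫ π = π') (B : QA π) (B' : QA π') : Prop :=
  ∀ (U : T.Opens), ∀ s ∈ B.carrier U, pb h e U s ∈ B'.carrier U

lemma Maps.of_eq_id {h : X ⟶ X} (hh : h = 𝟙 X) {e : h ≫ π = π} {B B' : QA π} (H : B ≤ B') :
    Maps h e B B' := fun U s hs ↦ by
  rw [pb_id h hh e]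
  exact H U hs

lemma Maps.le_of_eq_id {h : X ⟶ X} (hh : h = 𝟙 X) {e : h ≫ π = π} {B B' : QA π} (H : Maps h e B B') :
    B ≤ B' := fun U s hs ↦ by
  have := H U s hs
  rwa [pb_id h hh e] at this

lemma Maps.comp {h : X' ⟶ X} {e : h ≫ π = π'} {h' : X'' ⟶ X'} {e' : h' ≫ π' = π''}
    {B : QA π} {B' : QA π'} {B'' : QA π''} (H : Maps h e B B') (H' : Maps h' e' B' B'')
    {h'' : X'' ⟶ X} (hh : h'' = h' ≫ h) (e'' : h'' ≫ π = π'') : Maps h'' e'' B B'' :=
  fun U s hs ↦ by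
    have := H' U _ (H U s hs)
    rw [pb_pb] at this
    rwa [pb_congr hh]

end Pb

section Eq

variable {V X T : Scheme.{u}} {π : X ⟶ T} {σ : V ⟶ T} [QuasiCompact π] [QuasiSeparated π]
  [QuasiCompact σ] [QuasiSeparated σ]

/-- The subalgebra of sections on which two morphisms agree. -/
def eqQA (a b : V ⟶ X) (ha : a ≫ π = σ) (hb : b ≫ π = σ) : QA π where
  carrier U := (pb a ha U).eqLocus (pb b hb U)
  φ_mem {U} s := by
    rw [RingHom.mem_eqLocus, pb_φ, pb_φ]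
  res_mem {U V} h s hs := by
    rw [RingHom.mem_eqLocus] at hs ⊢
    rw [pb_res, pb_res, hs]
  glue {U} s hs := by
    rw [RingHom.mem_eqLocus]
    refine V.IsSheaf.section_ext ?_
    intro x hx
    obtain ⟨U', h, hxU', h1⟩ := hs (σ x) hx
    rw [RingHom.mem_eqLocus, pb_res, pb_res] at h1
    exact ⟨σ ⁻¹ᵁ U', σ.preimage_mono h, hxU', h1⟩
  qc {U} hU f s hs := by
    obtain ⟨n, t, ht⟩ := exists_res_eq (π := π) hU.isCompact hU.isQuasiSeparated f s
    rw [RingHom.mem_eqLocus] at hs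
    obtain ⟨m, hm⟩ := exists_pow_mul_eq_of_res_eq (π := σ) hU.isCompact hU.isQuasiSeparated f
      (pb a ha U t) (pb b hb U t) (by
        rw [← pb_res, ← pb_res, ht]
        simp only [map_mul, map_pow, pb_res, pb_φ, hs])
    refine ⟨m + n, φ π U f ^ m * t, ?_, ?_⟩
    · rw [RingHom.mem_eqLocus]
      simp only [map_mul, map_pow, pb_φ]
      exact hm
    · rw [map_mul, map_pow, ht, pow_add, mul_assoc]

omit [QuasiCompact σ] [QuasiSeparated σ] in
lemma mem_eqQA [QuasiCompact σ] [QuasiSeparated σ] {a b : V ⟶ X} {ha : a ≫ π = σ} {hb : b ≫ π = σ}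
    {U : T.Opens} {s : Γ(X, π ⁻¹ᵁ U)} :
    s ∈ (eqQA a b ha hb).carrier U ↔ pb a ha U s = pb b hb U s := Iff.rfl

end Eq

section Img

variable {X X' T : Scheme.{u}} {π : X ⟶ T} {π' : X' ⟶ T}

/-- The presheaf image of a subalgebra. -/
def imgPA (h : X' ⟶ X) (e : h ≫ π = π') (B : QA π) : PA π' ⊤ where
  carrier U := (B.carrier U).map (pb h e U)
  φ_mem {U} _ a := ⟨φ π U a, B.φ_mem a, pb_φ h e a⟩
  res_mem {U V} _ hVU s hs := by
    obtain ⟨t, ht, rfl⟩ := hs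
    exact ⟨res π hVU t, B.res_mem hVU ht, pb_res h e hVU t⟩
  qc {U} _ hU f s hs := by
    obtain ⟨t, ht, rfl⟩ := hs
    obtain ⟨n, t', ht', h1⟩ := B.qc hU f t ht
    refine ⟨n, pb h e U t', ⟨t', ht', rfl⟩, ?_⟩
    rw [← pb_res, h1]
    simp only [map_mul, map_pow, pb_res, pb_φ]

variable [QuasiCompact π'] [QuasiSeparated π'] [QuasiSeparatedSpace T] [CompactSpace T]

/-- The image of a quasi-coherent subalgebra. -/
def img (h : X' ⟶ X) (e : h ≫ π = π') (B : QA π) : QA π' :=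
  (imgPA h e B).sh (show IsCompact ((⊤ : T.Opens) : Set T) from isCompact_univ)

lemma maps_img (h : X' ⟶ X) (e : h ≫ π = π') (B : QA π) : Maps h e B (img h e B) := by
  intro U s hs x hx
  refine ⟨U, le_rfl, le_top, hx.1, ?_⟩
  rw [res_self]
  exact ⟨s, hs, rfl⟩

lemma img_le {h : X' ⟶ X} {e : h ≫ π = π'} {B : QA π} {B' : QA π'} (H : Maps h e B B') :
    img h e B ≤ B' := by
  intro U s hs
  refine B'.glue s fun x hx ↦ ?_
  obtain ⟨V, hV, -, hxV, t, ht, ht'⟩ := hs x ⟨hx, trivial⟩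
  exact ⟨V, hV, hxV, ht' ▸ H V t ht⟩

lemma ftOn_img (h : X' ⟶ X) (e : h ≫ π = π') (B : QA π) (hB : FTOn B ⊤) : FTOn (img h e B) ⊤ := by
  intro x hx
  obtain ⟨U, hU, hxU, E, hE, hEK⟩ := hB x hx
  refine ⟨U, hU, hxU, pb h e U '' E, hE.image _, ?_⟩
  have h1 : (img h e B).carrier U = (B.carrier U).map (pb h e U) :=
    (imgPA h e B).sh_carrier_of_le _ hU le_top
  rw [IsGenBy, h1, hEK]
  apply le_antisymm
  · rw [Subring.map_le_iff_le_comap]
    refine adj_le (fun a ↦ ?_) (fun y hy ↦ ?_)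
    · rw [Subring.mem_comap, pb_φ]
      exact φ_mem_adj a
    · exact subset_adj ⟨y, hy, rfl⟩
  · refine adj_le (fun a ↦ ⟨φ π U a, φ_mem_adj a, pb_φ h e a⟩) ?_
    rintro _ ⟨y, hy, rfl⟩
    exact ⟨y, subset_adj hy, rfl⟩

end Img

section Sup

variable {X T : Scheme.{u}} {π : X ⟶ T} [QuasiCompact π] [QuasiSeparated π] [QuasiSeparatedSpace T]
  [CompactSpace T]

/-- Two finite type quasi-coherent subalgebras of `C` are contained in a third one. -/
theorem exists_ft_ge_le (B B' C : QA π) (hB : FTOn B ⊤) (hB' : FTOn B' ⊤) (h : B ≤ C) (h' : B' ≤ C) :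
    ∃ B'' : QA π, FTOn B'' ⊤ ∧ B ≤ B'' ∧ B' ≤ B'' ∧ B'' ≤ C := by
  have hc : IsCompact ((⊤ : T.Opens) : Set T) := isCompact_univ
  refine ⟨(sup₀ B B').sh hc, ?_, ?_, ?_, ?_⟩
  · intro x hx
    obtain ⟨U, hU, hxU, E, hE, hEK⟩ := hB x hx
    obtain ⟨U', hU', hxU', E', hE', hEK'⟩ := hB' x hx
    obtain ⟨f, g, hfg, hxf⟩ := exists_basicOpen_le_affine_inter hU hU' x ⟨hxU, hxU'⟩
    have h1 := hEK.basicOpen hU f
    obtain ⟨E'', hE'', h2⟩ : ∃ E'' : Set Γ(X, π ⁻¹ᵁ T.basicOpen f), E''.Finite ∧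
        IsGenBy B' (T.basicOpen f) E'' := by
      rw [hfg]
      exact ⟨_, hE'.image _, hEK'.basicOpen hU' g⟩
    refine ⟨T.basicOpen f, hU.basicOpen f, hxf, res π (T.basicOpen_le f) '' E ∪ E'',
      (hE.image _).union hE'', ?_⟩
    rw [IsGenBy, PA.sh_carrier_of_le _ hc (hU.basicOpen f) le_top]
    refine le_antisymm (adj_le (fun _ ↦ φ_mem_adj _) ?_) (adj_mono ?_)
    · rintro s (hs | hs)
      · exact adj_mono Set.subset_union_left (h1.le hs)
      · exact adj_mono Set.subset_union_right (h2.le hs)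
    · refine Set.union_subset_union ?_ ?_
      · exact fun e he ↦ h1.ge (subset_adj he)
      · exact fun e he ↦ h2.ge (subset_adj he)
  · intro U s hs x hx
    exact ⟨U, le_rfl, le_top, hx.1, subset_adj (Or.inl (by rwa [res_self]))⟩
  · intro U s hs x hx
    exact ⟨U, le_rfl, le_top, hx.1, subset_adj (Or.inr (by rwa [res_self]))⟩
  · intro U s hs
    refine C.glue s fun x hx ↦ ?_
    obtain ⟨V, hV, -, hxV, ht⟩ := hs x ⟨hx, trivial⟩
    refine ⟨V, hV, hxV, ?_⟩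
    have : (sup₀ B B').carrier V ≤ C.carrier V :=
      adj_le (fun a ↦ C.φ_mem a) (by
        rintro y (hy | hy)
        · exact h V hy
        · exact h' V hy)
    exact this ht

/-- Every section of `C` over an affine open belongs to a finite type quasi-coherent subalgebra
of `C`. -/
theorem exists_ft_mem_le (C : QA π) {V : T.Opens} (hV : IsAffineOpen V) {s : Γ(X, π ⁻¹ᵁ V)}
    (hs : s ∈ C.carrier V) : ∃ K : QA π, FTOn K ⊤ ∧ K ≤ C ∧ s ∈ K.carrier V := by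
  let G : QA π := (gen V {s}).sh hV.isCompact
  have h1 : G.carrier V = adj V {s} := by
    have := (gen V {s}).sh_carrier_of_le hV.isCompact hV le_rfl
    rw [gen_carrier _ le_rfl] at this
    simpa using this
  have h2 : (G.inf C).carrier V = adj V {s} := by
    rw [QA.inf_carrier, h1, inf_eq_left]
    exact adj_le (fun a ↦ C.φ_mem a) (Set.singleton_subset_iff.mpr hs)
  obtain ⟨K, hK1, hK, hKG⟩ := exists_ft_eqOn (G.inf C) hV.isCompact
    (fun x hx ↦ ⟨V, hV, hx, {s}, Set.finite_singleton s, h2⟩)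
  exact ⟨K, hK, fun U ↦ (hK1 U).trans inf_le_right, by
    rw [hKG V le_rfl, h2]; exact subset_adj rfl⟩

end Sup

end

end K340.AQ
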