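import Groth.Agent.Lim.K340.AQ.Mor
import Mathlib.AlgebraicGeometry.Limits
import Mathlib.Algebra.Category.Ring.Constructions

/-!
# Sections on a coproduct over a base
-/

set_option autoImplicit false
universe u

open CategoryTheory Limits AlgebraicGeometry Opposite TopologicalSpace

namespace K340.AQ

open Groth.Agent.CalgA.QCSub Groth.Agent.CalgA

noncomputable section

section Coprod

variable {X Y : Scheme.{u}}

theorem coprod_bij (O : (X ⨿ Y).Opens) :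
    Function.Bijective (fun s : Γ(X ⨿ Y, O) ↦
      (((coprod.inl : X ⟶ X ⨿ Y).app O s, (coprod.inr : Y ⟶ X ⨿ Y).app O s) :
        Γ(X, (coprod.inl : X ⟶ X ⨿ Y) ⁻¹ᵁ O) × Γ(Y, (coprod.inr : Y ⟶ X ⨿ Y) ⁻¹ᵁ O))) := by
  let A := Γ(X, (coprod.inl : X ⟶ X ⨿ Y) ⁻¹ᵁ O)
  let B := Γ(Y, (coprod.inr : Y ⟶ X ⨿ Y) ⁻¹ᵁ O)
  let e : Γ(X ⨿ Y, O) ≅ CommRingCat.of (A × B) :=
    Scheme.coprodPresheafObjIso O ≪≫
      (prodIsProd A B).conePointUniqueUpToIso (CommRingCat.prodFanIsLimit A B)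
  have h1 : ∀ s, (e.hom s).1 = (coprod.inl : X ⟶ X ⨿ Y).app O s := by
    intro s
    have : e.hom ≫ CommRingCat.ofHom (RingHom.fst A B) = (coprod.inl : X ⟶ X ⨿ Y).app O := by
      have h2 := (prodIsProd A B).conePointUniqueUpToIso_hom_comp
        (CommRingCat.prodFanIsLimit A B) ⟨WalkingPair.left⟩
      simp only [e, Iso.trans_hom, Category.assoc]
      refine Eq.trans ?_ (Scheme.coprodPresheafObjIso_hom_fst O)
      congr 1
    exact congr($(this) s)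
  have h2 : ∀ s, (e.hom s).2 = (coprod.inr : Y ⟶ X ⨿ Y).app O s := by
    intro s
    have : e.hom ≫ CommRingCat.ofHom (RingHom.snd A B) = (coprod.inr : Y ⟶ X ⨿ Y).app O := by
      have h2 := (prodIsProd A B).conePointUniqueUpToIso_hom_comp
        (CommRingCat.prodFanIsLimit A B) ⟨WalkingPair.right⟩
      simp only [e, Iso.trans_hom, Category.assoc]
      refine Eq.trans ?_ (Scheme.coprodPresheafObjIso_hom_snd O)
      congr 1
    exact congr($(this) s)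
  have h3 : (fun s : Γ(X ⨿ Y, O) ↦
      (((coprod.inl : X ⟶ X ⨿ Y).app O s, (coprod.inr : Y ⟶ X ⨿ Y).app O s) : A × B)) =
      fun s ↦ (e.hom s : A × B) := by
    funext s
    exact Prod.ext (h1 s).symm (h2 s).symm
  rw [h3]
  exact ConcreteCategory.bijective_of_isIso e.hom

theorem coprod_bij' (O : (X ⨿ Y).Opens) (O₁ : X.Opens) (O₂ : Y.Opens)
    (e₁ : O₁ = (coprod.inl : X ⟶ X ⨿ Y) ⁻¹ᵁ O) (e₂ : O₂ = (coprod.inr : Y ⟶ X ⨿ Y) ⁻¹ᵁ O) :
    Function.Bijective (fun s : Γ(X ⨿ Y, O) ↦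
      (((coprod.inl : X ⟶ X ⨿ Y).appLE O O₁ e₁.le s, (coprod.inr : Y ⟶ X ⨿ Y).appLE O O₂ e₂.le s) :
        Γ(X, O₁) × Γ(Y, O₂))) := by
  subst e₁ e₂
  have := coprod_bij (X := X) (Y := Y) O
  simp only [Scheme.Hom.app_eq_appLE] at this
  exact this

variable {T : Scheme.{u}} {π : X ⟶ T} {w : Y ⟶ T}

lemma inl_desc : (coprod.inl : X ⟶ X ⨿ Y) ≫ coprod.desc π w = π := coprod.inl_desc _ _

lemma inr_desc : (coprod.inr : Y ⟶ X ⨿ Y) ≫ coprod.desc π w = w := coprod.inr_desc _ _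

theorem pb_coprod_bij (U : T.Opens) :
    Function.Bijective (fun s : Γ(X ⨿ Y, (coprod.desc π w) ⁻¹ᵁ U) ↦
      ((pb coprod.inl (inl_desc (w := w)) U s, pb coprod.inr (inr_desc (π := π)) U s) :
        Γ(X, π ⁻¹ᵁ U) × Γ(Y, w ⁻¹ᵁ U))) :=
  coprod_bij' _ _ _ (by rw [← Scheme.Hom.comp_preimage, inl_desc])
    (by rw [← Scheme.Hom.comp_preimage, inr_desc])

theorem pb_coprod_ext {U : T.Opens} {s t : Γ(X ⨿ Y, (coprod.desc π w) ⁻¹ᵁ U)}
    (h₁ : pb coprod.inl (inl_desc (w := w)) U s = pb coprod.inl (inl_desc (w := w)) U t)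
    (h₂ : pb coprod.inr (inr_desc (π := π)) U s = pb coprod.inr (inr_desc (π := π)) U t) : s = t :=
  (pb_coprod_bij U).1 (Prod.ext h₁ h₂)

theorem pb_coprod_exists {U : T.Opens} (a : Γ(X, π ⁻¹ᵁ U)) (b : Γ(Y, w ⁻¹ᵁ U)) :
    ∃ s : Γ(X ⨿ Y, (coprod.desc π w) ⁻¹ᵁ U),
      pb coprod.inl (inl_desc (w := w)) U s = a ∧ pb coprod.inr (inr_desc (π := π)) U s = b := by
  obtain ⟨s, hs⟩ := (pb_coprod_bij (π := π) (w := w) U).2 (a, b)
  exact ⟨s, congrArg Prod.fst hs, congrArg Prod.snd hs⟩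

end Coprod

end

end K340.AQ
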