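import Groth.Agent.Lim.K340.AQ.Coprod

/-!
# The fibre product algebra attached to an extension problem from a quasi-compact open
-/

set_option autoImplicit false
universe u

open CategoryTheory Limits AlgebraicGeometry Opposite TopologicalSpace

namespace K340.AQ

open Groth.Agent.CalgA.QCSub Groth.Agent.CalgA Groth.Agent.CalgA.RelApprox

noncomputable section

/-- A criterion for an open immersion onto the preimage of an open of the base. -/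
theorem isOpenImmersion_of_bijective {X Y T : Scheme.{u}} (f : X ⟶ Y) (g : Y ⟶ T) (h : X ⟶ T)
    (e : f ≫ g = h) [IsAffineHom g] (W : T.Opens) (h' : X ⟶ (W : Scheme.{u})) (hh' : h' ≫ W.ι = h)
    [IsAffineHom h']
    (H : ∀ U : T.Opens, IsAffineOpen U → U ≤ W →
      Function.Bijective (f.appLE (g ⁻¹ᵁ U) (h ⁻¹ᵁ U) (LimCrit.preimage_le e U))) :
    ∃ _ : IsOpenImmersion f, f.opensRange = g ⁻¹ᵁ W := by
  let Ω := g ⁻¹ᵁ W
  have hrange : Set.range f ⊆ Set.range Ω.ι := by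
    rw [Scheme.Opens.range_ι]
    rintro _ ⟨x, rfl⟩
    change g (f x) ∈ W
    rw [← Scheme.Hom.comp_apply, e, ← hh', Scheme.Hom.comp_apply]
    exact (h' x).2
  let f' : X ⟶ (Ω : Scheme.{u}) := IsOpenImmersion.lift Ω.ι f hrange
  have hf' : f' ≫ Ω.ι = f := IsOpenImmersion.lift_fac _ _ _
  have hcomp : f' ≫ (g ∣_ W) = h' := by
    rw [← cancel_mono W.ι, Category.assoc, morphismRestrict_ι, hh', ← e, ← hf', Category.assoc]
  have haff : IsAffineHom f' := by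
    apply MorphismProperty.of_postcomp (W := @IsAffineHom) (W' := @IsSeparated) f' (g ∣_ W)
    · infer_instance
    · rw [hcomp]; infer_instance
  have hle : ∀ U : T.Opens, U ≤ W → Ω.ι ''ᵁ (Ω.ι ⁻¹ᵁ (g ⁻¹ᵁ U)) = g ⁻¹ᵁ U := by
    intro U hU
    rw [Scheme.Hom.image_preimage_eq_opensRange_inf, Scheme.Opens.opensRange_ι, inf_eq_right]
    exact g.preimage_mono hU
  have hiso : IsIso f' := by
    refine IsZariskiLocalAtTarget.of_iSup_eq_top (P := MorphismProperty.isomorphisms Scheme)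
      (fun U : {U : T.affineOpens // (U : T.Opens) ≤ W} ↦ Ω.ι ⁻¹ᵁ (g ⁻¹ᵁ (U.1 : T.Opens))) ?_ fun U ↦ ?_
    · rw [← Scheme.Hom.preimage_iSup, ← Scheme.Hom.preimage_iSup]
      rw [eq_top_iff]
      intro x _
      obtain ⟨U, hU, hxU, hUW⟩ := exists_isAffineOpen_mem_and_subset (x := g (Ω.ι x)) (U := W) x.2
      exact Opens.mem_iSup.mpr ⟨⟨⟨U, hU⟩, hUW⟩, hxU⟩
    · have hUaff : IsAffineOpen (Ω.ι ⁻¹ᵁ (g ⁻¹ᵁ (U.1 : T.Opens))) := by
        rw [← Ω.ι.isAffineOpen_iff_of_isOpenImmersion, hle _ U.2]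
        exact U.1.2.preimage g
      refine (isIso_morphismRestrict_iff_isIso_app f' hUaff).mpr ?_
      have e₁ : f' ⁻¹ᵁ (Ω.ι ⁻¹ᵁ (g ⁻¹ᵁ (U.1 : T.Opens))) = h ⁻¹ᵁ (U.1 : T.Opens) := by
        rw [← Scheme.Hom.comp_preimage, ← Scheme.Hom.comp_preimage, hf', e]
      refine LimCrit.isIso_app_of_bijective_appLE f' _ (h ⁻¹ᵁ (U.1 : T.Opens)) e₁.ge e₁.le ?_
      have h1 := H U.1 U.1.2 U.2
      have h2 : f.appLE (g ⁻¹ᵁ (U.1 : T.Opens)) (h ⁻¹ᵁ (U.1 : T.Opens)) (LimCrit.preimage_le e _) =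
          Ω.ι.appLE (g ⁻¹ᵁ (U.1 : T.Opens)) (Ω.ι ⁻¹ᵁ (g ⁻¹ᵁ (U.1 : T.Opens))) le_rfl ≫
            f'.appLE (Ω.ι ⁻¹ᵁ (g ⁻¹ᵁ (U.1 : T.Opens))) (h ⁻¹ᵁ (U.1 : T.Opens)) e₁.ge := by
        rw [Scheme.Hom.appLE_comp_appLE]
        congr 1
        exact hf'.symm
      have h3 : IsIso (Ω.ι.appLE (g ⁻¹ᵁ (U.1 : T.Opens)) (Ω.ι ⁻¹ᵁ (g ⁻¹ᵁ (U.1 : T.Opens))) le_rfl) := by
        apply RelSpecMap.isIso_appLE_of_isOpenImmersion
        · exact le_rfl
        · rw [Scheme.Opens.opensRange_ι]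
          exact g.preimage_mono U.2
      have h4 : Function.Bijective (Ω.ι.appLE (g ⁻¹ᵁ (U.1 : T.Opens))
        (Ω.ι ⁻¹ᵁ (g ⁻¹ᵁ (U.1 : T.Opens))) le_rfl) := ConcreteCategory.bijective_of_isIso _
      rw [h2] at h1
      have h5 : Function.Bijective (fun x ↦ f'.appLE (Ω.ι ⁻¹ᵁ (g ⁻¹ᵁ (U.1 : T.Opens)))
          (h ⁻¹ᵁ (U.1 : T.Opens)) e₁.ge (Ω.ι.appLE (g ⁻¹ᵁ (U.1 : T.Opens))
        (Ω.ι ⁻¹ᵁ (g ⁻¹ᵁ (U.1 : T.Opens))) le_rfl x)) := h1
      exact (Function.Bijective.of_comp_iff _ h4).mp h5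
  refine ⟨by rw [← hf']; infer_instance, ?_⟩
  · ext x
    constructor
    · rintro ⟨y, rfl⟩
      have := hrange ⟨y, rfl⟩
      rwa [Scheme.Opens.range_ι] at this
    · intro hx
      obtain ⟨y, hy⟩ := (f'.homeomorph).surjective ⟨x, hx⟩
      refine ⟨y, ?_⟩
      rw [← hf', Scheme.Hom.comp_apply]
      exact congrArg Subtype.val hy

section Fib

variable {S V V' T : Scheme.{u}} {π : S ⟶ T} {w : V' ⟶ T} {v : V ⟶ S} {ρ : V ⟶ V'}
  [QuasiCompact (coprod.desc π w)] [QuasiSeparated (coprod.desc π w)]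
  [QuasiCompact (v ≫ π)] [QuasiSeparated (v ≫ π)]

/-- The fibre product `π_* O_S ×_{σ_* O_V} w_* O_{V'}`. -/
def fib (e : ρ ≫ w = v ≫ π) : QA (coprod.desc π w) :=
  eqQA (σ := v ≫ π) (v ≫ coprod.inl) (ρ ≫ coprod.inr)
    (by rw [Category.assoc, inl_desc]) (by rw [Category.assoc, inr_desc, e])

lemma mem_fib {e : ρ ≫ w = v ≫ π} {U : T.Opens} {s : Γ(S ⨿ V', (coprod.desc π w) ⁻¹ᵁ U)} :
    s ∈ (fib e).carrier U ↔
      pb v rfl U (pb coprod.inl inl_desc U s) = pb ρ e U (pb coprod.inr inr_desc U s) := by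
  rw [pb_pb, pb_pb]
  exact Iff.rfl

omit [QuasiCompact (coprod.desc π w)] [QuasiSeparated (coprod.desc π w)]
  [QuasiCompact (v ≫ π)] [QuasiSeparated (v ≫ π)] in
lemma pb_v_bijective [IsOpenImmersion v] {W : T.Opens} (hv : v.opensRange = π ⁻¹ᵁ W) {U : T.Opens}
    (hU : U ≤ W) : Function.Bijective (pb v rfl U : Γ(S, π ⁻¹ᵁ U) →+* Γ(V, (v ≫ π) ⁻¹ᵁ U)) := by
  have : IsIso (v.appLE (π ⁻¹ᵁ U) ((v ≫ π) ⁻¹ᵁ U) (LimCrit.preimage_le rfl U)) := by
    apply RelSpecMap.isIso_appLE_of_isOpenImmersion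
    · rw [Scheme.Hom.comp_preimage]
    · rw [hv]
      exact π.preimage_mono hU
  exact ConcreteCategory.bijective_of_isIso _

lemma fib_injOn [IsOpenImmersion v] {W : T.Opens} (hv : v.opensRange = π ⁻¹ᵁ W)
    {e : ρ ≫ w = v ≫ π} {U : T.Opens} (hU : U ≤ W)
    {s t : Γ(S ⨿ V', (coprod.desc π w) ⁻¹ᵁ U)} (hs : s ∈ (fib e).carrier U)
    (ht : t ∈ (fib e).carrier U)
    (h : pb coprod.inr (inr_desc (π := π)) U s = pb coprod.inr (inr_desc (π := π)) U t) : s = t := by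
  refine pb_coprod_ext ((pb_v_bijective (v := v) hv hU).1 ?_) h
  rw [mem_fib] at hs ht
  rw [hs, ht, h]

lemma fib_surj [IsOpenImmersion v] {W : T.Opens} (hv : v.opensRange = π ⁻¹ᵁ W)
    (e : ρ ≫ w = v ≫ π) {U : T.Opens} (hU : U ≤ W) (b : Γ(V', w ⁻¹ᵁ U)) :
    ∃ s ∈ (fib e).carrier U, pb coprod.inr (inr_desc (π := π)) U s = b := by
  obtain ⟨a, ha⟩ := (pb_v_bijective (v := v) hv hU).2 (pb ρ e U b)
  obtain ⟨s, hs₁, hs₂⟩ := pb_coprod_exists (π := π) (w := w) a b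
  exact ⟨s, by rw [mem_fib, hs₁, hs₂, ha], hs₂⟩

/-- The fibre product is of finite type over `W`. -/
theorem ftOn_fib [IsOpenImmersion v] {W : T.Opens} (hv : v.opensRange = π ⁻¹ᵁ W)
    (e : ρ ≫ w = v ≫ π) [LocallyOfFiniteType w]
    (haff : ∀ U : T.Opens, IsAffineOpen U → U ≤ W → IsAffineOpen (w ⁻¹ᵁ U)) :
    FTOn (fib e) W := by
  intro x hx
  obtain ⟨U, hU, hxU, hUW⟩ := exists_isAffineOpen_mem_and_subset (x := x) (U := W) hx
  let _ : Algebra Γ(T, U) Γ(V', w ⁻¹ᵁ U) := (φ w U).toAlgebra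
  have hft : Algebra.FiniteType Γ(T, U) Γ(V', w ⁻¹ᵁ U) := by
    have := w.finiteType_appLE hU (haff U hU hUW) le_rfl
    rw [Scheme.Hom.appLE_eq_app] at this
    exact this
  obtain ⟨E₀, hE₀⟩ := hft
  choose l hl hl' using fun b ↦ fib_surj (v := v) hv e hUW b
  refine ⟨U, hU, hxU, l '' (E₀ : Set Γ(V', w ⁻¹ᵁ U)), E₀.finite_toSet.image _, ?_⟩
  apply le_antisymm
  · intro s hs
    have hadj : ∀ b ∈ Algebra.adjoin Γ(T, U) (E₀ : Set Γ(V', w ⁻¹ᵁ U)),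
        ∃ t ∈ adj U (l '' (E₀ : Set Γ(V', w ⁻¹ᵁ U))),
          pb coprod.inr (inr_desc (π := π)) U t = b := by
      intro b hb
      induction hb using Algebra.adjoin_induction with
      | mem x hx => exact ⟨l x, subset_adj ⟨x, hx, rfl⟩, hl' x⟩
      | algebraMap r => exact ⟨φ _ U r, φ_mem_adj r, pb_φ _ _ r⟩
      | add x y _ _ hx hy =>
        obtain ⟨t, ht, rfl⟩ := hx
        obtain ⟨t', ht', rfl⟩ := hy
        exact ⟨t + t', add_mem ht ht', map_add _ _ _⟩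
      | mul x y _ _ hx hy =>
        obtain ⟨t, ht, rfl⟩ := hx
        obtain ⟨t', ht', rfl⟩ := hy
        exact ⟨t * t', mul_mem ht ht', map_mul _ _ _⟩
    obtain ⟨t, ht, ht'⟩ := hadj (pb coprod.inr (inr_desc (π := π)) U s) (hE₀ ▸ Algebra.mem_top)
    have ht2 : t ∈ (fib e).carrier U := by
      refine adj_le (fun a ↦ (fib e).φ_mem a) ?_ ht
      rintro _ ⟨b, -, rfl⟩
      exact hl b
    rw [← fib_injOn (v := v) hv hUW ht2 hs ht']
    exact ht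
  · refine adj_le (fun a ↦ (fib e).φ_mem a) ?_
    rintro _ ⟨b, -, rfl⟩
    exact hl b

/-- The relative spectrum of an algebra which agrees with the fibre product over `W` is an extension
of `V'`. -/
theorem isOpenImmersion_inr_q [IsOpenImmersion v] {W : T.Opens} (hv : v.opensRange = π ⁻¹ᵁ W)
    (e : ρ ≫ w = v ≫ π) (w' : V' ⟶ (W : Scheme.{u})) (hw' : w' ≫ W.ι = w) [IsAffineHom w']
    (B : QA (coprod.desc π w)) (hB : ∀ U ≤ W, B.carrier U = (fib e).carrier U) :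
    ∃ _ : IsOpenImmersion ((coprod.inr : V' ⟶ S ⨿ V') ≫ q B),
      ((coprod.inr : V' ⟶ S ⨿ V') ≫ q B).opensRange = p B ⁻¹ᵁ W := by
  have e' : ((coprod.inr : V' ⟶ S ⨿ V') ≫ q B) ≫ p B = w := by
    rw [Category.assoc, q_p, inr_desc]
  refine isOpenImmersion_of_bijective _ (p B) w e' W w' hw' fun U hU hUW ↦ ?_
  change Function.Bijective (pb ((coprod.inr : V' ⟶ S ⨿ V') ≫ q B) e' U)
  have key : ∀ y, pb ((coprod.inr : V' ⟶ S ⨿ V') ≫ q B) e' U y =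
      pb coprod.inr inr_desc U (pb (q B) (q_p B) U y) := fun y ↦ (pb_pb _ _ _ _ _).symm
  constructor
  · intro y y' hyy'
    rw [key, key] at hyy'
    have h1 := pb_q_mem U hU y
    have h2 := pb_q_mem U hU y'
    rw [hB U hUW] at h1 h2
    exact pb_q_injective U hU (fib_injOn (v := v) hv hUW h1 h2 hyy')
  · intro b
    obtain ⟨s, hs, rfl⟩ := fib_surj (v := v) hv e hUW b
    rw [← hB U hUW] at hs
    obtain ⟨y, rfl⟩ := pb_q_range U hU s hs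
    exact ⟨y, key y⟩

omit [QuasiCompact (v ≫ π)] [QuasiSeparated (v ≫ π)] in
/-- Equality of the two maps out of `V`. -/
theorem v_inl_q [QuasiCompact (v ≫ π)] [QuasiSeparated (v ≫ π)] (e : ρ ≫ w = v ≫ π)
    (B : QA (coprod.desc π w)) (hB : B ≤ fib e) :
    v ≫ (coprod.inl : S ⟶ S ⨿ V') ≫ q B = ρ ≫ (coprod.inr : V' ⟶ S ⨿ V') ≫ q B := by
  have := comp_q_eq hB
  simpa only [Category.assoc] using this

end Fib

end

end K340.AQ
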