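import Groth.Agent.Lim.K340.AQ.Idx
import Groth.Agent.Lim.K340.AQ.Aff
import Groth.Agent.S0590

/-!
# Noetherian approximation relative to a quasi-compact open
-/

set_option autoImplicit false
universe u

open CategoryTheory Limits AlgebraicGeometry Opposite TopologicalSpace

namespace K340.AQ

open Groth.Agent.CalgA.QCSub Groth.Agent.CalgA Groth.Agent.CalgA.RelApprox

noncomputable section

namespace Sys

variable {S T : Scheme.{u}} {𝔖 : Sys S T}

lemma exists_imm (a : 𝔖.Idx) : ∃ _ : IsOpenImmersion (coprod.inr ≫ qX a),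
    (coprod.inr ≫ qX a).opensRange = pX a ⁻¹ᵁ 𝔖.W :=
  isOpenImmersion_inr_q 𝔖.hv (𝔖.ee a.i a.hi) (𝔖.ww a.i a.hi) (𝔖.ww_ι _ _) a.B a.eq

lemma exists_phi (a : 𝔖.Idx) :
    ∃ φ : ((pX a ⁻¹ᵁ 𝔖.W : (X a).Opens) : Scheme.{u}) ≅ 𝔖.D.obj (op a.i),
      φ.hom ≫ coprod.inr ≫ qX a = (pX a ⁻¹ᵁ 𝔖.W).ι := by
  obtain ⟨h, hr⟩ := exists_imm a
  have e : Set.range (pX a ⁻¹ᵁ 𝔖.W).ι = Set.range (coprod.inr ≫ qX a) := by
    rw [Scheme.Opens.range_ι, ← hr]
    rfl
  exact ⟨IsOpenImmersion.isoOfRangeEq _ _ e, IsOpenImmersion.isoOfRangeEq_hom_fac _ _ e⟩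

/-- The identification of the open part with the given system. -/
def phi (a : 𝔖.Idx) : ((pX a ⁻¹ᵁ 𝔖.W : (X a).Opens) : Scheme.{u}) ≅ 𝔖.D.obj (op a.i) :=
  (exists_phi a).choose

lemma phi_hom (a : 𝔖.Idx) : (phi a).hom ≫ coprod.inr ≫ qX a = (pX a ⁻¹ᵁ 𝔖.W).ι :=
  (exists_phi a).choose_spec

lemma phi_inv (a : 𝔖.Idx) : (phi a).inv ≫ (pX a ⁻¹ᵁ 𝔖.W).ι = coprod.inr ≫ qX a := by
  rw [Iso.inv_comp_eq, phi_hom]

lemma isAffineHom_tX {a b : 𝔖.Idx} (h : a ≤ b) : IsAffineHom (tX h) := by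
  apply MorphismProperty.of_postcomp (W := @IsAffineHom) (W' := @IsSeparated) (tX h) (pX a)
  · infer_instance
  · rw [tX_pX]; infer_instance

lemma lft_pX (a : 𝔖.Idx) : LocallyOfFiniteType (pX a) := locallyOfFiniteType_p a.ft

lemma v_inl (a : 𝔖.Idx) :
    𝔖.v ≫ coprod.inl ≫ qX a = 𝔖.c.π.app (op a.i) ≫ coprod.inr ≫ qX a :=
  v_inl_q (𝔖.ee a.i a.hi) a.B a.le

/-- The projection to the index set of the given system. -/
def alpha (𝔖 : Sys S T) : 𝔖.Idx →o 𝔖.I where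
  toFun a := a.i
  monotone' _ _ h := h.choose

end Sys

/-- A scheme of finite type over the integers is Noetherian. -/
lemma isNoetherian_of_lft (T : Scheme.{u}) [CompactSpace T]
    [LocallyOfFiniteType (specULiftZIsTerminal.from T)] : IsNoetherian T := by
  have inst3 : IsNoetherianRing (ULift.{u} ℤ) :=
    isNoetherianRing_of_ringEquiv ℤ ULift.ringEquiv.symm
  have hT : IsLocallyNoetherian T :=
    LocallyOfFiniteType.isLocallyNoetherian (specULiftZIsTerminal.from T)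
  exact ⟨⟩

/-- An affine morphism to a scheme of finite type over the integers compatible with a quasi-compact
open. -/
theorem exists_base (S : Scheme.{u}) [CompactSpace S] [QuasiSeparatedSpace S] (V : S.Opens)
    (hV : IsCompact (V : Set S)) :
    ∃ (T : Scheme.{u}) (π : S ⟶ T) (W : T.Opens), IsAffineHom π ∧ CompactSpace T ∧
      LocallyOfFiniteType (specULiftZIsTerminal.from T) ∧ π ⁻¹ᵁ W = V := by
  obtain ⟨I, _, _, _, D, c, hc, haff, hft, ⟨e⟩⟩ := Groth.Agent.S0590.result S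
  have haff' : ∀ {i j : Iᵒᵖ} (f : i ⟶ j), IsAffineHom (D.map f) := fun f ↦ haff _ _ f
  obtain ⟨i, W, -, hW⟩ := exists_preimage_eq D c hc (e.hom ⁻¹ᵁ V)
    (e.hom.isCompact_preimage hV)
  have h1 : IsAffineHom (c.π.app i) := isAffineHom_π_app D c hc i
  have h2 : IsAffineHom (e.inv ≫ c.π.app i) := inferInstance
  refine ⟨D.obj i, e.inv ≫ c.π.app i, W, h2, (hft i).1, (hft i).2, ?_⟩
  rw [Scheme.Hom.comp_preimage, hW, ← Scheme.Hom.comp_preimage, e.inv_hom_id]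
  rfl

end

end K340.AQ
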