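import Groth.Agent.Lim.K340.AQ.Sys

/-!
# The index set and the diagram of approximations
-/

set_option autoImplicit false
universe u

open CategoryTheory Limits AlgebraicGeometry Opposite TopologicalSpace

namespace K340.AQ

open Groth.Agent.CalgA.QCSub Groth.Agent.CalgA Groth.Agent.CalgA.RelApprox
open Groth.Agent.Flat2H.LimitSections

noncomputable section

namespace Sys

variable {S T : Scheme.{u}} (𝔖 : Sys S T)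

/-- The index set. -/
structure Idx where
  /-- the index of the given system -/
  i : 𝔖.I
  hi : 𝔖.i₁ ≤ i
  /-- the subalgebra -/
  B : QA (coprod.desc 𝔖.π (𝔖.w i hi))
  ft : FTOn B ⊤
  le : B ≤ 𝔖.Bt i hi
  eq : ∀ U ≤ 𝔖.W, B.carrier U = (𝔖.Bt i hi).carrier U

variable {𝔖}

/-- The order relation. -/
def Idx.LE (a b : 𝔖.Idx) : Prop :=
  ∃ h : a.i ≤ b.i, Maps (𝔖.tr h) (𝔖.tr_desc h a.hi b.hi) a.B b.B

instance : Preorder 𝔖.Idx where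
  le := Idx.LE
  le_refl a := ⟨le_rfl, Maps.of_eq_id (𝔖.tr_self _) le_rfl⟩
  le_trans a b c := by
    rintro ⟨h, H⟩ ⟨h', H'⟩
    exact ⟨h.trans h', H.comp H' (𝔖.tr_trans h h') _⟩

lemma Idx.le_iff {a b : 𝔖.Idx} :
    a ≤ b ↔ ∃ h : a.i ≤ b.i, Maps (𝔖.tr h) (𝔖.tr_desc h a.hi b.hi) a.B b.B := Iff.rfl

variable [CompactSpace T] [QuasiSeparatedSpace T]

omit [CompactSpace T] [QuasiSeparatedSpace T] in
lemma ftOn_Bt (i : 𝔖.I) (hi : 𝔖.i₁ ≤ i) : FTOn (𝔖.Bt i hi) 𝔖.W := by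
  refine ftOn_fib 𝔖.hv (𝔖.ee i hi) fun U hU hUW ↦ ?_
  rw [← 𝔖.ww_ι i hi, Scheme.Hom.comp_preimage]
  refine IsAffineOpen.preimage ?_ _
  rw [← 𝔖.W.ι.isAffineOpen_iff_of_isOpenImmersion, Scheme.Hom.image_preimage_eq_opensRange_inf,
    Scheme.Opens.opensRange_ι, inf_eq_right.mpr hUW]
  exact hU

omit [QuasiSeparatedSpace T] in
lemma isCompact_W : IsCompact (𝔖.W : Set T) := by
  have : CompactSpace (𝔖.W : Scheme.{u}) := QuasiCompact.compactSpace_of_compactSpace 𝔖.W.ι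
  exact isCompact_iff_compactSpace.mpr this

/-- Existence of an index above two given finite type subalgebras. -/
theorem exists_idx {i : 𝔖.I} (hi : 𝔖.i₁ ≤ i) (K₁ K₂ : QA (coprod.desc 𝔖.π (𝔖.w i hi)))
    (h₁ : FTOn K₁ ⊤) (h₂ : FTOn K₂ ⊤) (l₁ : K₁ ≤ 𝔖.Bt i hi) (l₂ : K₂ ≤ 𝔖.Bt i hi) :
    ∃ B : QA (coprod.desc 𝔖.π (𝔖.w i hi)), FTOn B ⊤ ∧ B ≤ 𝔖.Bt i hi ∧
      (∀ U ≤ 𝔖.W, B.carrier U = (𝔖.Bt i hi).carrier U) ∧ K₁ ≤ B ∧ K₂ ≤ B := by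
  obtain ⟨K₀, hK₀, hft₀, heq₀⟩ := exists_ft_eqOn (𝔖.Bt i hi) 𝔖.isCompact_W (ftOn_Bt i hi)
  obtain ⟨K₃, h₃, l31, l32, l3⟩ := exists_ft_ge_le K₁ K₂ (𝔖.Bt i hi) h₁ h₂ l₁ l₂
  obtain ⟨B, hB, l4, l5, l6⟩ := exists_ft_ge_le K₀ K₃ (𝔖.Bt i hi) hft₀ h₃ hK₀ l3
  exact ⟨B, hB, l6, fun U hU ↦ le_antisymm (l6 U) (by rw [← heq₀ U hU]; exact l4 U),
    l31.trans l5, l32.trans l5⟩

/-- Existence of an index over a given `i`. -/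
theorem exists_idx₀ {i : 𝔖.I} (hi : 𝔖.i₁ ≤ i) : ∃ a : 𝔖.Idx, a.i = i := by
  obtain ⟨K₀, hK₀, hft₀, heq₀⟩ := exists_ft_eqOn (𝔖.Bt i hi) 𝔖.isCompact_W (ftOn_Bt i hi)
  exact ⟨⟨i, hi, K₀, hft₀, hK₀, heq₀⟩, rfl⟩

instance : Nonempty 𝔖.Idx := ⟨(exists_idx₀ (𝔖 := 𝔖) le_rfl).choose⟩

/-- Two indices have a common upper bound over each common upper bound in `I`. -/
theorem exists_idx_ge (a b : 𝔖.Idx) {k : 𝔖.I} (ha : a.i ≤ k) (hb : b.i ≤ k) :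
    ∃ c : 𝔖.Idx, c.i = k ∧ a ≤ c ∧ b ≤ c := by
  have hk : 𝔖.i₁ ≤ k := a.hi.trans ha
  obtain ⟨B, h1, h2, h3, h4, h5⟩ := exists_idx hk
    (img (𝔖.tr ha) (𝔖.tr_desc ha a.hi hk) a.B) (img (𝔖.tr hb) (𝔖.tr_desc hb b.hi hk) b.B)
    (ftOn_img _ _ _ a.ft) (ftOn_img _ _ _ b.ft)
    (img_le fun U s hs ↦ 𝔖.maps_Bt ha a.hi hk U s (a.le U hs))
    (img_le fun U s hs ↦ 𝔖.maps_Bt hb b.hi hk U s (b.le U hs))
  exact ⟨⟨k, hk, B, h1, h2, h3⟩, rfl, ⟨ha, fun U s hs ↦ h4 U (maps_img _ _ _ U s hs)⟩,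
    ⟨hb, fun U s hs ↦ h5 U (maps_img _ _ _ U s hs)⟩⟩

instance : IsDirected 𝔖.Idx (fun a b ↦ a ≤ b) where
  directed a b := by
    obtain ⟨k, ha, hb⟩ := 𝔖.dirI.directed a.i b.i
    obtain ⟨c, -, hac, hbc⟩ := exists_idx_ge a b ha hb
    exact ⟨c, hac, hbc⟩

omit [CompactSpace T] [QuasiSeparatedSpace T] in
/-- The transition map. -/
lemma Idx.maps {a b : 𝔖.Idx} (h : a ≤ b) :
    Maps (𝔖.tr h.choose) (𝔖.tr_desc h.choose a.hi b.hi) a.B b.B := h.choose_spec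

/-- The approximations. -/
def X (a : 𝔖.Idx) : Scheme.{u} := Y a.B

/-- The structure morphism. -/
def pX (a : 𝔖.Idx) : X a ⟶ T := p a.B

instance (a : 𝔖.Idx) : IsAffineHom (pX a) := inferInstanceAs (IsAffineHom (p a.B))

/-- The transition morphism. -/
def tX {a b : 𝔖.Idx} (h : a ≤ b) : X b ⟶ X a := mM (Idx.maps h)

omit [CompactSpace T] [QuasiSeparatedSpace T] in
@[reassoc]
lemma tX_pX {a b : 𝔖.Idx} (h : a ≤ b) : tX h ≫ pX a = pX b := mM_p _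

/-- The morphism from the coproduct. -/
def qX (a : 𝔖.Idx) : S ⨿ 𝔖.D.obj (op a.i) ⟶ X a := q a.B

omit [CompactSpace T] [QuasiSeparatedSpace T] in
lemma qX_pX (a : 𝔖.Idx) : qX a ≫ pX a = coprod.desc 𝔖.π (𝔖.w a.i a.hi) := q_p _

omit [CompactSpace T] [QuasiSeparatedSpace T] in
lemma qX_tX {a b : 𝔖.Idx} (h : a ≤ b) : qX b ≫ tX h = 𝔖.tr h.choose ≫ qX a := q_mM _

omit [CompactSpace T] [QuasiSeparatedSpace T] in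
lemma pb_qX_injective (b : 𝔖.Idx) {U : T.Opens} (hU : IsAffineOpen U) :
    Function.Injective (pb (qX b) (qX_pX b) U) :=
  pb_q_injective (B := b.B) U hU

/-- The diagram. -/
def diag (𝔖 : Sys S T) : 𝔖.Idxᵒᵖ ⥤ Scheme.{u} where
  obj a := X a.unop
  map f := tX f.unop.le
  map_id _ := mM_eq_id (𝔖.tr_self _) _
  map_comp f g :=
    (mM_comp (Idx.maps g.unop.le) (Idx.maps f.unop.le) (Idx.maps (f ≫ g).unop.le)
      (𝔖.tr_trans _ _)).symm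

/-- The cone. -/
def cone (𝔖 : Sys S T) : Cone (diag 𝔖) where
  pt := S
  π :=
    { app a := coprod.inl ≫ qX a.unop
      naturality {a b} f := by
        refine (Category.id_comp _).trans ?_
        change coprod.inl ≫ qX b.unop = (coprod.inl ≫ qX a.unop) ≫ tX f.unop.le
        rw [Category.assoc, qX_tX, ← Category.assoc, 𝔖.inl_tr] }

omit [CompactSpace T] [QuasiSeparatedSpace T] in
lemma cone_pX (a : 𝔖.Idxᵒᵖ) : (cone 𝔖).π.app a ≫ pX a.unop = 𝔖.π := by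
  change (coprod.inl ≫ qX a.unop) ≫ pX a.unop = 𝔖.π
  rw [Category.assoc, qX_pX, inl_desc]

omit [CompactSpace T] [QuasiSeparatedSpace T] in
/-- Sections of the limit over a compact open of a stage come from a later stage. -/
lemma exists_pb_c [QuasiSeparatedSpace T] {U : T.Opens} (hU : IsAffineOpen U)
    (s : Γ(𝔖.c.pt, (𝔖.v ≫ 𝔖.π) ⁻¹ᵁ U)) :
    ∃ (i : 𝔖.I) (hi : 𝔖.i₁ ≤ i) (b : Γ(𝔖.D.obj (op i), 𝔖.w i hi ⁻¹ᵁ U)),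
      pb (𝔖.c.π.app (op i)) (𝔖.ee i hi) U b = s := by
  have hc : IsCompact ((𝔖.w 𝔖.i₁ le_rfl ⁻¹ᵁ U : (𝔖.D.obj (op 𝔖.i₁)).Opens) :
      Set (𝔖.D.obj (op 𝔖.i₁))) :=
    (𝔖.w 𝔖.i₁ le_rfl).isCompact_preimage hU.isCompact
  have e₀ : 𝔖.c.π.app (op 𝔖.i₁) ⁻¹ᵁ (𝔖.w 𝔖.i₁ le_rfl ⁻¹ᵁ U) = (𝔖.v ≫ 𝔖.π) ⁻¹ᵁ U := by
    rw [← Scheme.Hom.comp_preimage, 𝔖.ee]
  obtain ⟨j, f, t, ht⟩ := exists_app_eq 𝔖.hc (𝔖.w 𝔖.i₁ le_rfl ⁻¹ᵁ U) hc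
    (𝔖.c.pt.presheaf.map (homOfLE e₀.le).op s)
  have hj : 𝔖.i₁ ≤ j.unop := f.unop.le
  have e₁ : 𝔖.w j.unop hj ⁻¹ᵁ U ≤ 𝔖.D.map f ⁻¹ᵁ (𝔖.w 𝔖.i₁ le_rfl ⁻¹ᵁ U) := by
    rw [← Scheme.Hom.comp_preimage]
    have : 𝔖.D.map f ≫ 𝔖.w 𝔖.i₁ le_rfl = 𝔖.w j.unop hj := 𝔖.map_w hj le_rfl
    rw [this]
  refine ⟨j.unop, hj, (𝔖.D.obj j).presheaf.map (homOfLE e₁).op t, ?_⟩
  have h1 := congrArg (𝔖.c.pt.presheaf.map (homOfLE e₀.ge).op) ht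
  have h3 : 𝔖.c.pt.presheaf.map (homOfLE e₀.ge).op (𝔖.c.pt.presheaf.map (homOfLE e₀.le).op s) = s := by
    rw [← ConcreteCategory.comp_apply, ← Functor.map_comp]
    have h2 : (homOfLE e₀.le).op ≫ (homOfLE e₀.ge).op = 𝟙 (op ((𝔖.v ≫ 𝔖.π) ⁻¹ᵁ U)) := rfl
    rw [h2, CategoryTheory.Functor.map_id]
    rfl
  refine Eq.trans ?_ (h1.trans h3)
  exact (appLE_ores (X := 𝔖.c.pt) (𝔖.c.π.app j) _ e₁ t).trans
    (ores_appLE (X := 𝔖.c.pt) (𝔖.c.π.app j) _ e₀.ge t).symm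

omit [CompactSpace T] [QuasiSeparatedSpace T] in
/-- Sections of a stage dying in the limit die at a later stage. -/
lemma exists_pb_zero {U : T.Opens} (hU : IsAffineOpen U) {i : 𝔖.I} (hi : 𝔖.i₁ ≤ i)
    (b : Γ(𝔖.D.obj (op i), 𝔖.w i hi ⁻¹ᵁ U)) (hb : pb (𝔖.c.π.app (op i)) (𝔖.ee i hi) U b = 0) :
    ∃ (j : 𝔖.I) (h : i ≤ j), pb (𝔖.D.map (homOfLE h).op) (𝔖.map_w h hi) U b = 0 := by
  have hc : IsCompact ((𝔖.w i hi ⁻¹ᵁ U : (𝔖.D.obj (op i)).Opens) : Set (𝔖.D.obj (op i))) :=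
    (𝔖.w i hi).isCompact_preimage hU.isCompact
  have h0 : (𝔖.c.π.app (op i)).app (𝔖.w i hi ⁻¹ᵁ U) b = 0 := by
    have e₀ : 𝔖.c.π.app (op i) ⁻¹ᵁ (𝔖.w i hi ⁻¹ᵁ U) ≤ (𝔖.v ≫ 𝔖.π) ⁻¹ᵁ U := by
      rw [← Scheme.Hom.comp_preimage, 𝔖.ee]
    have := congrArg (𝔖.c.pt.presheaf.map (homOfLE e₀).op) hb
    rw [map_zero] at this
    refine Eq.trans ?_ this
    rw [Scheme.Hom.app_eq_appLE]
    exact (ores_appLE (X := 𝔖.c.pt) (𝔖.c.π.app (op i)) _ e₀ b).symm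
  obtain ⟨j, f, hf⟩ := exists_app_map_eq_zero_of_isLimit 𝔖.D 𝔖.c 𝔖.hc hc b h0
  have hj : i ≤ j.unop := f.unop.le
  refine ⟨j.unop, hj, ?_⟩
  have e₁ : 𝔖.w j.unop (hi.trans hj) ⁻¹ᵁ U ≤ 𝔖.D.map f ⁻¹ᵁ (𝔖.w i hi ⁻¹ᵁ U) := by
    rw [← Scheme.Hom.comp_preimage]
    have : 𝔖.D.map f ≫ 𝔖.w i hi = 𝔖.w j.unop (hi.trans hj) := 𝔖.map_w hj hi
    rw [this]
  have := congrArg ((𝔖.D.obj j).presheaf.map (homOfLE e₁).op) hf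
  rw [map_zero, Scheme.Hom.app_eq_appLE, ← ConcreteCategory.comp_apply, Scheme.Hom.appLE_map] at this
  exact this

/-- `S` is the limit of the approximations. -/
theorem nonempty_isLimit (𝔖 : Sys S T) : Nonempty (IsLimit (cone 𝔖)) := by
  have haff : IsAffineHom (show (cone 𝔖).pt ⟶ T from 𝔖.π) := 𝔖.aff
  let t (a : 𝔖.Idxᵒᵖ) : (diag 𝔖).obj a ⟶ T := pX a.unop
  have ht (a : 𝔖.Idxᵒᵖ) : IsAffineHom (t a) := inferInstanceAs (IsAffineHom (pX a.unop))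
  refine LimCrit.nonempty_isLimit (diag 𝔖) t (fun f ↦ tX_pX f.unop.le)
    (cone 𝔖) 𝔖.π (fun a ↦ cone_pX a) ?_ ?_
  · intro U hU s
    obtain ⟨i, hi, b, hb⟩ := exists_pb_c hU (pb 𝔖.v rfl U s)
    obtain ⟨x, hx₁, hx₂⟩ := pb_coprod_exists (π := 𝔖.π) (w := 𝔖.w i hi) s b
    have hx : x ∈ (𝔖.Bt i hi).carrier U := by
      rw [Bt, mem_fib, hx₁, hx₂, hb]
    obtain ⟨K, hK₁, hK₂, hK₃⟩ := exists_ft_mem_le (𝔖.Bt i hi) hU hx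
    obtain ⟨B, h1, h2, h3, h4, -⟩ := exists_idx hi K K hK₁ hK₁ hK₂ hK₂
    let a : 𝔖.Idx := ⟨i, hi, B, h1, h2, h3⟩
    obtain ⟨y, hy⟩ := pb_q_range (B := B) U hU x (h4 U hK₃)
    refine ⟨op a, y, ?_⟩
    have e' : (coprod.inl ≫ qX a) ≫ pX a = 𝔖.π := cone_pX (op a)
    change pb (coprod.inl ≫ qX a) e' U y = s
    rw [← hx₁, ← hy, pb_pb]
    rfl
  · intro U hU a y₀ hy
    let a' : 𝔖.Idx := a.unop
    let y : Γ(X a', pX a' ⁻¹ᵁ U) := y₀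
    let x := pb (qX a') (qX_pX a') U y
    have hx : x ∈ (𝔖.Bt a'.i a'.hi).carrier U := a'.le U (pb_q_mem U hU y)
    have hx₁ : pb coprod.inl inl_desc U x = 0 := by
      have e' : (coprod.inl ≫ qX a') ≫ pX a' = 𝔖.π := cone_pX a
      have : pb (coprod.inl ≫ qX a') e' U y = 0 := hy
      rw [← this, pb_pb]
    rw [Bt, mem_fib, hx₁, map_zero] at hx
    obtain ⟨j, hj, hj0⟩ := exists_pb_zero hU a'.hi _ hx.symm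
    obtain ⟨b, rfl, hab, -⟩ := exists_idx_ge a' a' hj hj
    refine ⟨op b, (homOfLE hab).op, ?_⟩
    change pb (tX hab) (tX_pX hab) U y = 0
    apply pb_qX_injective b hU
    rw [map_zero, pb_pb, pb_congr (qX_tX hab), ← pb_pb (qX a') (qX_pX a') (𝔖.tr hab.choose)
      (𝔖.tr_desc _ a'.hi b.hi)]
    apply pb_coprod_ext
    · rw [map_zero, pb_inl_tr]
      exact hx₁
    · rw [map_zero, pb_inr_tr]
      exact hj0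

end Sys

end

end K340.AQ
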