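import Groth.Agent.Lim.K340.AQ.Basic

/-!
# Morphisms between relative spectra of quasi-coherent subalgebras
-/

set_option autoImplicit false
universe u

open CategoryTheory Limits AlgebraicGeometry Opposite TopologicalSpace

namespace K340.AQ

open AlgebraicGeometry.Scheme.AffineZariskiSite AlgebraicGeometry.Scheme
open Groth.Agent.CalgA.QCSub Groth.Agent.CalgA Groth.Agent.CalgA.RelSpecMap
open Groth.Agent.CohqB.RelSpec Groth.Agent.CohqB Groth.Agent.CalgA.RelApprox

noncomputable section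

section Precomp

variable {X : Scheme.{u}} {F : X.AffineZariskiSiteᵒᵖ ⥤ CommRingCat.{u}}
  {α : (Scheme.AffineZariskiSite.toOpensFunctor X).op ⋙ X.presheaf ⟶ F} (H : α.Coequifibered)
  {Z Z' : Scheme.{u}} {g : Z ⟶ X} {g' : Z' ⟶ X} (d : LiftData α g) (h : Z' ⟶ Z) (e : h ≫ g = g')

/-- Precomposition of lifting data. -/
def precomp : LiftData α g' where
  ψ U := d.ψ U ≫ h.appLE (g ⁻¹ᵁ U.toOpens) (g' ⁻¹ᵁ U.toOpens) (LimCrit.preimage_le e U.toOpens)
  nat {U V} i := by
    rw [← Category.assoc, d.nat, Category.assoc, Category.assoc, Scheme.Hom.map_appLE,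
      Scheme.Hom.appLE_map]
  comp U := by
    rw [← Category.assoc, d.comp, Scheme.Hom.app_eq_appLE, Scheme.Hom.appLE_comp_appLE]
    subst e
    rw [Scheme.Hom.app_eq_appLE]

theorem precomp_lift : h ≫ lift H d = lift H (precomp d h e) := by
  refine Scheme.Cover.hom_ext (Z'.openCoverOfIsOpenCover _
    (.comap (iSup_affineOpens_eq_top X) g'.base.hom)) _ _ fun U ↦ ?_
  let U' : X.AffineZariskiSite := ⟨U.1, U.2⟩
  change (g' ⁻¹ᵁ U'.toOpens).ι ≫ h ≫ lift H d = (g' ⁻¹ᵁ U'.toOpens).ι ≫ lift H (precomp d h e)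
  rw [ι_lift]
  have h1 : (g' ⁻¹ᵁ U'.toOpens).ι ≫ h =
      h.resLE (g ⁻¹ᵁ U'.toOpens) (g' ⁻¹ᵁ U'.toOpens) (LimCrit.preimage_le e U'.toOpens) ≫
        (g ⁻¹ᵁ U'.toOpens).ι := by
    rw [Scheme.Hom.resLE_comp_ι]
  rw [← Category.assoc, h1, Category.assoc, ι_lift]
  have h2 : (g' ⁻¹ᵁ U'.toOpens).toSpecΓ ≫ Spec.map ((precomp d h e).ψ U') =
      h.resLE (g ⁻¹ᵁ U'.toOpens) (g' ⁻¹ᵁ U'.toOpens) (LimCrit.preimage_le e U'.toOpens) ≫
        (g ⁻¹ᵁ U'.toOpens).toSpecΓ ≫ Spec.map (d.ψ U') := by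
    simp only [precomp]
    rw [Spec.map_comp, ← Category.assoc, Scheme.Opens.toSpecΓ_SpecMap_appLE, Category.assoc]
  rw [← Category.assoc (g' ⁻¹ᵁ U'.toOpens).toSpecΓ, h2]
  simp only [Category.assoc]

end Precomp

variable {X X' X'' V T : Scheme.{u}} {π : X ⟶ T} {π' : X' ⟶ T} {π'' : X'' ⟶ T} {σ : V ⟶ T}
  {B : QA π} {B' : QA π'} {B'' : QA π''}

/-- The map of algebras attached to a map of subalgebras. -/
def inclM {h : X' ⟶ X} {e : h ≫ π = π'} (H : Maps h e B B') : alg B ⟶ alg B' where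
  app U := CommRingCat.ofHom ((pb h e U.unop.toOpens).restrict _ _ (H _))
  naturality {U V} i := by
    ext x
    exact Subtype.ext (pb_res h e (toOpens_mono i.unop.le) x.1)

variable [QuasiCompact π] [QuasiSeparated π] [QuasiCompact π'] [QuasiSeparated π']
  [QuasiCompact π''] [QuasiSeparated π'']

/-- The morphism of relative spectra attached to a map of subalgebras. -/
def mM {h : X' ⟶ X} {e : h ≫ π = π'} (H : Maps h e B B') : Y B' ⟶ Y B :=
  map (coequifibered_str B) (coequifibered_str B') (inclM H)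

lemma mM_p {h : X' ⟶ X} {e : h ≫ π = π'} (H : Maps h e B B') : mM H ≫ p B = p B' :=
  map_toBase _ _ _ (by
    ext U x
    exact Subtype.ext (pb_φ h e x))

lemma q_mM {h : X' ⟶ X} {e : h ≫ π = π'} (H : Maps h e B B') : q B' ≫ mM H = h ≫ q B := by
  have h1 : h ≫ q B = lift (coequifibered_str B) (precomp (liftData B) h e) := precomp_lift _ _ _ _
  rw [h1]
  exact lift_map _ _ _ _ _ fun U ↦ rfl

lemma mM_eq_id {h : X ⟶ X} (hh : h = 𝟙 X) {e : h ≫ π = π} (H : Maps h e B B) : mM H = 𝟙 _ := by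
  have : inclM H = 𝟙 _ := by
    ext U x
    exact Subtype.ext (pb_id h hh e x.1)
  rw [mM, this]
  exact map_id _

lemma mM_comp {h : X' ⟶ X} {e : h ≫ π = π'} {h' : X'' ⟶ X'} {e' : h' ≫ π' = π''}
    (H : Maps h e B B') (H' : Maps h' e' B' B'') {h'' : X'' ⟶ X} {e'' : h'' ≫ π = π''}
    (H'' : Maps h'' e'' B B'') (hh : h'' = h' ≫ h) : mM H' ≫ mM H = mM H'' := by
  have : inclM H'' = inclM H ≫ inclM H' := by
    ext U x
    refine Subtype.ext ?_
    change pb h'' e'' _ x.1 = pb h' e' _ (pb h e _ x.1)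
    rw [pb_pb, pb_congr hh]
  rw [mM, mM, mM, this]
  exact (map_comp _ _ _ (inclM H) (inclM H')).symm

/-- Two morphisms which agree on a subalgebra have the same composition with the morphism to its
relative spectrum. -/
lemma comp_q_eq [QuasiCompact σ] [QuasiSeparated σ] {a b : V ⟶ X} {ha : a ≫ π = σ}
    {hb : b ≫ π = σ} (H : B ≤ eqQA a b ha hb) : a ≫ q B = b ≫ q B := by
  have h1 : a ≫ q B = lift (coequifibered_str B) (precomp (liftData B) a ha) := precomp_lift _ _ _ _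
  have h2 : b ≫ q B = lift (coequifibered_str B) (precomp (liftData B) b hb) := precomp_lift _ _ _ _
  rw [h1, h2]
  congr 1
  have : ∀ U, (precomp (liftData B) a ha).ψ U = (precomp (liftData B) b hb).ψ U := by
    intro U
    ext x
    exact H U.toOpens x.2
  unfold precomp at this ⊢
  congr 1
  funext U
  exact this U

/-- Sections of the relative spectrum over an affine open, seen on the source. -/
lemma pb_q_range (U : T.Opens) (hU : IsAffineOpen U) (s : Γ(X, π ⁻¹ᵁ U)) (hs : s ∈ B.carrier U) :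
    ∃ y : Γ(Y B, p B ⁻¹ᵁ U), pb (q B) (q_p B) U y = s :=
  q_appLE_range U hU s hs

lemma pb_q_injective (U : T.Opens) (hU : IsAffineOpen U) :
    Function.Injective (pb (q B) (q_p B) U) :=
  q_appLE_injective U hU

lemma pb_q_mem (U : T.Opens) (hU : IsAffineOpen U) (y : Γ(Y B, p B ⁻¹ᵁ U)) :
    pb (q B) (q_p B) U y ∈ B.carrier U := by
  let U' : T.AffineZariskiSite := ⟨U, hU⟩
  have h1 : (q B).appLE (p B ⁻¹ᵁ U) (π ⁻¹ᵁ U) (LimCrit.preimage_le (q_p B) U) =
      sectionHom (coequifibered_str B) U' ≫ (liftData B).ψ U' :=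
    lift_appLE (coequifibered_str B) (liftData B) U'
  have h2 := congr($(h1) y)
  have h3 : pb (q B) (q_p B) U y = (sectionHom (coequifibered_str B) U' y).1 := h2
  rw [h3]
  exact (sectionHom (coequifibered_str B) U' y).2

end

end K340.AQ
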