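import Groth.Agent.Lim.K340.AQ.Fib
import Groth.Agent.S4608
import Groth.Agent.S4609
import Groth.Agent.Flat2H.LimitSections

/-!
# The inverse system of approximations relative to a quasi-compact open
-/

set_option autoImplicit false
universe u

open CategoryTheory Limits AlgebraicGeometry Opposite TopologicalSpace

namespace K340.AQ

open Groth.Agent.CalgA.QCSub Groth.Agent.CalgA Groth.Agent.CalgA.RelApprox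

noncomputable section

/-- An affine morphism `π : S ⟶ T`, an open `W` of `T` and a presentation of `π⁻¹ W` as a limit. -/
structure Sys (S T : Scheme.{u}) where
  /-- the affine morphism -/
  π : S ⟶ T
  aff : IsAffineHom π
  /-- the open -/
  W : T.Opens
  qcW : QuasiCompact W.ι
  /-- the index set -/
  I : Type u
  preI : Preorder I
  dirI : IsDirected I (fun a b ↦ a ≤ b)
  /-- the system -/
  D : Iᵒᵖ ⥤ Scheme.{u}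
  affD : ∀ {i j : Iᵒᵖ} (f : i ⟶ j), IsAffineHom (D.map f)
  qsD : ∀ i, QuasiSeparatedSpace (D.obj i)
  /-- the limit cone -/
  c : Cone D
  hc : IsLimit c
  /-- the open immersion -/
  v : c.pt ⟶ S
  imm : IsOpenImmersion v
  hv : v.opensRange = π ⁻¹ᵁ W
  /-- the first index -/
  i₁ : I
  /-- the morphism at the first index -/
  w' : D.obj (op i₁) ⟶ (W : Scheme.{u})
  affw : IsAffineHom w'
  lft : ∀ (i : I) (hi : i₁ ≤ i), LocallyOfFiniteType (D.map (homOfLE hi).op ≫ w' ≫ W.ι)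
  e : c.π.app (op i₁) ≫ w' ≫ W.ι = v ≫ π

attribute [instance] Sys.aff Sys.qcW Sys.preI Sys.dirI Sys.affD Sys.qsD Sys.imm
  Sys.affw

namespace Sys

variable {S T : Scheme.{u}} (𝔖 : Sys S T)

instance : IsCofiltered 𝔖.Iᵒᵖ :=
  have : Nonempty 𝔖.I := ⟨𝔖.i₁⟩
  inferInstance

/-- The structure morphism over `W`. -/
def ww (i : 𝔖.I) (hi : 𝔖.i₁ ≤ i) : 𝔖.D.obj (op i) ⟶ (𝔖.W : Scheme.{u}) :=
  𝔖.D.map (homOfLE hi).op ≫ 𝔖.w'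

/-- The structure morphism over `T`. -/
def w (i : 𝔖.I) (hi : 𝔖.i₁ ≤ i) : 𝔖.D.obj (op i) ⟶ T :=
  𝔖.D.map (homOfLE hi).op ≫ 𝔖.w' ≫ 𝔖.W.ι

lemma ww_ι (i : 𝔖.I) (hi : 𝔖.i₁ ≤ i) : 𝔖.ww i hi ≫ 𝔖.W.ι = 𝔖.w i hi := Category.assoc _ _ _

instance (i : 𝔖.I) (hi : 𝔖.i₁ ≤ i) : IsAffineHom (𝔖.ww i hi) := by
  unfold ww; infer_instance

instance (i : 𝔖.I) (hi : 𝔖.i₁ ≤ i) : LocallyOfFiniteType (𝔖.w i hi) := 𝔖.lft i hi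

instance (i : 𝔖.I) (hi : 𝔖.i₁ ≤ i) : QuasiCompact (𝔖.w i hi) := by
  unfold w; infer_instance

instance (i : 𝔖.I) (hi : 𝔖.i₁ ≤ i) : QuasiSeparated (𝔖.w i hi) := by
  unfold w; infer_instance

instance (i : 𝔖.I) (hi : 𝔖.i₁ ≤ i) : QuasiCompact (coprod.desc 𝔖.π (𝔖.w i hi)) :=
  (Groth.Agent.S4608.result _ _).mpr ⟨inferInstance, inferInstance⟩

instance (i : 𝔖.I) (hi : 𝔖.i₁ ≤ i) : QuasiSeparated (coprod.desc 𝔖.π (𝔖.w i hi)) :=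
  (Groth.Agent.S4609.result _ _).mpr ⟨inferInstance, inferInstance⟩

lemma map_w {i j : 𝔖.I} (h : i ≤ j) (hi : 𝔖.i₁ ≤ i) :
    𝔖.D.map (homOfLE h).op ≫ 𝔖.w i hi = 𝔖.w j (hi.trans h) := by
  unfold w
  rw [← Functor.map_comp_assoc]
  rfl

lemma ee (i : 𝔖.I) (hi : 𝔖.i₁ ≤ i) : 𝔖.c.π.app (op i) ≫ 𝔖.w i hi = 𝔖.v ≫ 𝔖.π := by
  unfold w
  rw [← 𝔖.e, ← Category.assoc, 𝔖.c.w]

instance : QuasiCompact (𝔖.v ≫ 𝔖.π) := by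
  rw [← 𝔖.e]
  have := isAffineHom_π_app 𝔖.D 𝔖.c 𝔖.hc (op 𝔖.i₁)
  infer_instance

instance : QuasiSeparated (𝔖.v ≫ 𝔖.π) := by
  rw [← 𝔖.e]
  have := isAffineHom_π_app 𝔖.D 𝔖.c 𝔖.hc (op 𝔖.i₁)
  infer_instance

/-- The fibre product algebra at the index `i`. -/
def Bt (i : 𝔖.I) (hi : 𝔖.i₁ ≤ i) : QA (coprod.desc 𝔖.π (𝔖.w i hi)) := fib (𝔖.ee i hi)

/-- The transition maps of the coproducts. -/
def tr {i j : 𝔖.I} (h : i ≤ j) : S ⨿ 𝔖.D.obj (op j) ⟶ S ⨿ 𝔖.D.obj (op i) :=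
  coprod.map (𝟙 S) (𝔖.D.map (homOfLE h).op)

lemma tr_desc {i j : 𝔖.I} (h : i ≤ j) (hi : 𝔖.i₁ ≤ i) (hj : 𝔖.i₁ ≤ j) :
    𝔖.tr h ≫ coprod.desc 𝔖.π (𝔖.w i hi) = coprod.desc 𝔖.π (𝔖.w j hj) := by
  unfold tr
  rw [coprod.map_desc, Category.id_comp, map_w]

lemma tr_self {i : 𝔖.I} (h : i ≤ i) : 𝔖.tr h = 𝟙 _ := by
  unfold tr
  have : 𝔖.D.map (homOfLE h).op = 𝟙 _ := 𝔖.D.map_id _
  rw [this, coprod.map_id_id]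

lemma tr_trans {i j k : 𝔖.I} (h : i ≤ j) (h' : j ≤ k) : 𝔖.tr (h.trans h') = 𝔖.tr h' ≫ 𝔖.tr h := by
  unfold tr
  rw [coprod.map_map, Category.id_comp, ← Functor.map_comp]
  rfl

lemma inl_tr {i j : 𝔖.I} (h : i ≤ j) : coprod.inl ≫ 𝔖.tr h = coprod.inl := by
  unfold tr
  rw [coprod.inl_map, Category.id_comp]

lemma inr_tr {i j : 𝔖.I} (h : i ≤ j) :
    coprod.inr ≫ 𝔖.tr h = 𝔖.D.map (homOfLE h).op ≫ coprod.inr := by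
  unfold tr
  rw [coprod.inr_map]

lemma pb_inl_tr {i j : 𝔖.I} (h : i ≤ j) (hi : 𝔖.i₁ ≤ i) (hj : 𝔖.i₁ ≤ j) {U : T.Opens}
    (s : Γ(S ⨿ 𝔖.D.obj (op i), coprod.desc 𝔖.π (𝔖.w i hi) ⁻¹ᵁ U)) :
    pb coprod.inl inl_desc U (pb (𝔖.tr h) (𝔖.tr_desc h hi hj) U s) = pb coprod.inl inl_desc U s := by
  rw [pb_pb, pb_congr (𝔖.inl_tr h)]

lemma pb_inr_tr {i j : 𝔖.I} (h : i ≤ j) (hi : 𝔖.i₁ ≤ i) (hj : 𝔖.i₁ ≤ j) {U : T.Opens}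
    (s : Γ(S ⨿ 𝔖.D.obj (op i), coprod.desc 𝔖.π (𝔖.w i hi) ⁻¹ᵁ U)) :
    pb coprod.inr inr_desc U (pb (𝔖.tr h) (𝔖.tr_desc h hi hj) U s) =
      pb (𝔖.D.map (homOfLE h).op) (𝔖.map_w h hi) U (pb coprod.inr inr_desc U s) := by
  rw [pb_pb, pb_pb, pb_congr (𝔖.inr_tr h)]

lemma pb_c {i j : 𝔖.I} (h : i ≤ j) (hi : 𝔖.i₁ ≤ i) {U : T.Opens}
    (s : Γ(𝔖.D.obj (op i), 𝔖.w i hi ⁻¹ᵁ U)) :
    pb (𝔖.c.π.app (op j)) (𝔖.ee j (hi.trans h)) U (pb (𝔖.D.map (homOfLE h).op) (𝔖.map_w h hi) U s) =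
      pb (𝔖.c.π.app (op i)) (𝔖.ee i hi) U s := by
  rw [pb_pb, pb_congr (𝔖.c.w (homOfLE h).op)]

lemma maps_Bt {i j : 𝔖.I} (h : i ≤ j) (hi : 𝔖.i₁ ≤ i) (hj : 𝔖.i₁ ≤ j) :
    Maps (𝔖.tr h) (𝔖.tr_desc h hi hj) (𝔖.Bt i hi) (𝔖.Bt j hj) := by
  intro U s hs
  rw [Bt, mem_fib] at hs ⊢
  rw [pb_inl_tr, pb_inr_tr, pb_c]
  exact hs

end Sys

end

end K340.AQ
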